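import Mathlib

/-!
The trace (norm) map from the fixed points of a subgroup `T` of `L` to the fixed points of `L`,
for `L` acting on a commutative group.
-/

namespace Cfsg.Agent.Lib.Trace

open MulAction

variable {L : Type*} [Group L] [Finite L] {M : Type*} [CommGroup M] [MulDistribMulAction L M]

/-- The translate of a `T`-fixed element by a coset of `T`. -/
def cosetSmul {T : Subgroup L} {c : M} (hc : ∀ t ∈ T, t • c = c) : L ⧸ T → M :=
  fun q => Quotient.liftOn' q (fun l => l • c) fun a b hab => by
    rw [QuotientGroup.leftRel_apply] at hab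
    calc a • c = a • ((a⁻¹ * b) • c) := by rw [hc _ hab]
      _ = b • c := by rw [smul_smul, mul_inv_cancel_left]

theorem cosetSmul_mk {T : Subgroup L} {c : M} (hc : ∀ t ∈ T, t • c = c) (l : L) :
    cosetSmul hc (l : L ⧸ T) = l • c := rfl

theorem smul_cosetSmul {T : Subgroup L} {c : M} (hc : ∀ t ∈ T, t • c = c) (l : L) (q : L ⧸ T) :
    l • cosetSmul hc q = cosetSmul hc (l • q) := by
  induction q using Quotient.inductionOn' with
  | h x => exact smul_smul l x c

/-- The trace of a `T`-fixed element. -/
noncomputable def trace {T : Subgroup L} {c : M} (hc : ∀ t ∈ T, t • c = c) : M :=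
  haveI := Fintype.ofFinite (L ⧸ T)
  ∏ q : L ⧸ T, cosetSmul hc q

theorem smul_trace {T : Subgroup L} {c : M} (hc : ∀ t ∈ T, t • c = c) (l : L) :
    l • trace hc = trace hc := by
  let := Fintype.ofFinite (L ⧸ T)
  rw [trace, Finset.smul_prod']
  exact Fintype.prod_equiv (MulAction.toPerm l) _ _ fun q => smul_cosetSmul hc l q

theorem trace_mul {T : Subgroup L} {c d : M} (hc : ∀ t ∈ T, t • c = c) (hd : ∀ t ∈ T, t • d = d)
    (hcd : ∀ t ∈ T, t • (c * d) = c * d) : trace hcd = trace hc * trace hd := by
  let := Fintype.ofFinite (L ⧸ T)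
  simp only [trace]
  rw [← Finset.prod_mul_distrib]
  refine Finset.prod_congr rfl fun q _ => ?_
  induction q using Quotient.inductionOn' with
  | h x => exact smul_mul' x c d

theorem trace_of_fixed {T : Subgroup L} {c : M} (hc : ∀ t ∈ T, t • c = c)
    (hfix : ∀ l : L, l • c = c) : trace hc = c ^ T.index := by
  let := Fintype.ofFinite (L ⧸ T)
  rw [trace, Finset.prod_eq_pow_card (b := c), Finset.card_univ, Subgroup.index,
    Nat.card_eq_fintype_card]
  intro q _
  induction q using Quotient.inductionOn' with
  | h x => exact hfix x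

theorem map_trace_of_trivial {M' : Type*} [CommGroup M'] (f : M →* M') {T : Subgroup L} {c : M}
    (hc : ∀ t ∈ T, t • c = c) (hfix : ∀ l : L, f (l • c) = f c) :
    f (trace hc) = f c ^ T.index := by
  let := Fintype.ofFinite (L ⧸ T)
  rw [trace, map_prod, Finset.prod_eq_pow_card (b := f c), Finset.card_univ, Subgroup.index,
    Nat.card_eq_fintype_card]
  intro q _
  induction q using Quotient.inductionOn' with
  | h x => exact hfix x

/-- The `T`-fixed elements as a subgroup. -/
def fixedBy' (T : Subgroup L) : Subgroup M where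
  carrier := {c | ∀ t ∈ T, t • c = c}
  one_mem' := fun t _ => smul_one t
  mul_mem' := fun hc hd t ht => by rw [smul_mul', hc t ht, hd t ht]
  inv_mem' := fun hc t ht => by rw [smul_inv', hc t ht]

/-- The trace as a homomorphism. -/
noncomputable def traceHom (T : Subgroup L) : fixedBy' (M := M) T →* M where
  toFun c := trace c.2
  map_one' := by
    rw [trace_of_fixed (T := T) (c := (1 : M)) (fun t _ => smul_one t) fun l => smul_one l,
      one_pow]
  map_mul' c d := trace_mul c.2 d.2 (c * d).2

end Cfsg.Agent.Lib.Trace
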